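import Mathlib

/-! An automorphism of prime order `p` acting irreducibly on an elementary abelian `q`-group
forces the group to have order `q ^ e`, with `e` the order of `q` modulo `p`. -/

set_option autoImplicit false

namespace Cfsg.Agent.Lib.FG3.PrimeOrderIrred

open Polynomial

section Linear

variable {q : ℕ} [hq : Fact q.Prime] {V : Type*} [AddCommGroup V] [Module (ZMod q) V] [Finite V]

theorem pow_eq_expand (f : (ZMod q)[X]) (N : ℕ) : f ^ (q ^ N) = expand (ZMod q) (q ^ N) f := by
  induction N generalizing f with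
  | zero => simp
  | succ N ih =>
    rw [pow_succ', Polynomial.expand_mul, ← ih, ZMod.expand_card, ← pow_mul, mul_comm]

/-- Counting: a linear map on a finite `𝔽_q`-space that is irreducible and satisfies
`σ ^ (q ^ N) = σ` acts on a space with at most `q ^ N` elements. -/
theorem card_le_of_simple (σ : V →ₗ[ZMod q] V) {N : ℕ} (hN : N ≠ 0)
    (hσ : σ ^ (q ^ N) = σ)
    (hs : ∀ W : Submodule (ZMod q) V, (∀ w ∈ W, σ w ∈ W) → W = ⊥ ∨ W = ⊤)
    (v : V) (hv : v ≠ 0) : Nat.card V ≤ q ^ N := by
  classical
  set φ : (ZMod q)[X] →ₐ[ZMod q] Module.End (ZMod q) V := aeval (σ : Module.End (ZMod q) V) with hφ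
  have hφX : φ X = σ := by simp [hφ]
  have hcomm : ∀ f : (ZMod q)[X], ∀ w, φ f (σ w) = σ (φ f w) := by
    intro f w
    have h1 : φ f * σ = σ * φ f := by
      have := congrArg φ (mul_comm f X)
      simpa [map_mul, hφX] using this
    exact congrArg (fun t : Module.End (ZMod q) V => t w) h1
  -- images of polynomials are stable
  have hrange : ∀ f : (ZMod q)[X], φ f ≠ 0 → LinearMap.range (φ f) = ⊤ := by
    intro f hf
    have := hs (LinearMap.range (φ f)) (by
      rintro w ⟨u, rfl⟩
      exact ⟨σ u, hcomm f u⟩)
    rcases this with h | h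
    · exact absurd (LinearMap.range_eq_bot.mp h) hf
    · exact h
  -- the kernel is prime
  let I : Ideal (ZMod q)[X] := RingHom.ker φ.toRingHom
  have hmem : ∀ f, f ∈ I ↔ φ f = 0 := fun f => RingHom.mem_ker
  have hI : I.IsPrime := by
    refine ⟨?_, ?_⟩
    · intro h
      have h1 : (1 : (ZMod q)[X]) ∈ I := by rw [h]; trivial
      rw [hmem, map_one] at h1
      apply hv
      have := congrArg (fun t : Module.End (ZMod q) V => t v) h1
      simpa using this
    · intro f g hfg
      rw [hmem, map_mul] at hfg
      by_cases hf : φ f = 0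
      · exact Or.inl ((hmem f).2 hf)
      · right
        rw [hmem]
        -- `φ g ∘ φ f = 0` and `φ f` is onto
        have h2 : φ g * φ f = 0 := by
          have : φ g * φ f = φ f * φ g := by rw [← map_mul, ← map_mul, mul_comm]
          rw [this, hfg]
        ext w
        have hw : w ∈ LinearMap.range (φ f) := by rw [hrange f hf]; trivial
        obtain ⟨u, rfl⟩ := hw
        exact congrArg (fun t : Module.End (ZMod q) V => t u) h2
  -- the cyclic subspace generated by `v` is everything
  have hcyc : ∀ w : V, ∃ f : (ZMod q)[X], φ f v = w := by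
    let W : Submodule (ZMod q) V :=
      { carrier := {w | ∃ f : (ZMod q)[X], φ f v = w}
        add_mem' := by
          rintro _ _ ⟨f, rfl⟩ ⟨g, rfl⟩
          exact ⟨f + g, by simp⟩
        zero_mem' := ⟨0, by simp⟩
        smul_mem' := by
          rintro c _ ⟨f, rfl⟩
          exact ⟨c • f, by simp⟩ }
    have hW : W = ⊤ := by
      rcases hs W (by
        rintro _ ⟨f, rfl⟩
        refine ⟨X * f, ?_⟩
        rw [map_mul, hφX]
        rfl) with h | h
      · exfalso
        have : v ∈ W := ⟨1, by simp⟩
        rw [h] at this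
        exact hv ((Submodule.mem_bot _).1 this)
      · exact h
    intro w
    have : w ∈ W := by rw [hW]; trivial
    exact this
  -- the quotient ring
  let K := (ZMod q)[X] ⧸ I
  haveI : IsDomain K := Ideal.Quotient.isDomain I
  haveI : Finite (Module.End (ZMod q) V) :=
    Finite.of_injective (fun f : V →ₗ[ZMod q] V => (f : V → V)) DFunLike.coe_injective
  haveI hKfin : Finite K :=
    Finite.of_injective (RingHom.kerLift φ.toRingHom) (RingHom.kerLift_injective _)
  have hfrob : ∀ x : K, x ^ (q ^ N) = x := by
    intro x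
    obtain ⟨f, rfl⟩ := Ideal.Quotient.mk_surjective x
    rw [← map_pow, pow_eq_expand, Ideal.Quotient.eq, hmem, map_sub, sub_eq_zero]
    change aeval σ (expand (ZMod q) (q ^ N) f) = aeval σ f
    rw [expand_aeval, hσ]
  -- root counting
  have hKcard : Nat.card K ≤ q ^ N := by
    haveI := Fintype.ofFinite K
    have hq1 : 1 < q := hq.out.one_lt
    have hlt : 1 < q ^ N := Nat.one_lt_pow hN hq1
    have hdeg : (X ^ (q ^ N) - X : K[X]).natDegree = q ^ N := by
      rw [natDegree_sub_eq_left_of_natDegree_lt (by rw [natDegree_X, natDegree_X_pow]; exact hlt),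
        natDegree_X_pow]
    have hP0 : (X ^ (q ^ N) - X : K[X]) ≠ 0 := by
      intro h
      rw [h, natDegree_zero] at hdeg
      omega
    have hsub : (Finset.univ : Finset K) ⊆ (X ^ (q ^ N) - X : K[X]).roots.toFinset := by
      intro x _
      rw [Multiset.mem_toFinset, mem_roots hP0]
      simp [IsRoot, hfrob x]
    calc Nat.card K = (Finset.univ : Finset K).card := by
          rw [Nat.card_eq_fintype_card, Finset.card_univ]
      _ ≤ (X ^ (q ^ N) - X : K[X]).roots.toFinset.card := Finset.card_le_card hsub
      _ ≤ Multiset.card (X ^ (q ^ N) - X : K[X]).roots := Multiset.toFinset_card_le _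
      _ ≤ (X ^ (q ^ N) - X : K[X]).natDegree := card_roots' _
      _ = q ^ N := hdeg
  refine le_trans ?_ hKcard
  choose F hF using hcyc
  refine Nat.card_le_card_of_injective (fun w => (Ideal.Quotient.mk I (F w) : K)) ?_
  intro w w' hww'
  have : F w - F w' ∈ I := Ideal.Quotient.eq.1 hww'
  rw [hmem, map_sub, sub_eq_zero] at this
  rw [← hF w, ← hF w', this]

end Linear

section Group

variable {p q : ℕ} [hp : Fact p.Prime] [hq : Fact q.Prime] {A : Type*} [CommGroup A] [Finite A]

/-- The upper bound, for a chosen module structure. -/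
theorem card_le_aux [Module (ZMod q) (Additive A)] (σ : MulAut A) (hne : σ ≠ 1)
    (hs : ∀ B : Subgroup A, (∀ b ∈ B, σ b ∈ B) → B = ⊥ ∨ B = ⊤) {e : ℕ} (hepos : e ≠ 0)
    (hσq : σ ^ (q ^ e) = σ) : Nat.card (Additive A) ≤ q ^ e := by
  let τ : Additive A →ₗ[ZMod q] Additive A :=
    AddMonoidHom.toZModLinearMap q (MonoidHom.toAdditive (σ.toMonoidHom))
  have hτ : ∀ x : Additive A, τ x = Additive.ofMul (σ (Additive.toMul x)) := fun x => rfl
  have hτpow : ∀ n : ℕ, ∀ x : Additive A, (τ ^ n : Module.End (ZMod q) (Additive A)) x = Additive.ofMul ((σ ^ n) (Additive.toMul x)) := by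
    intro n
    induction n with
    | zero => intro x; rfl
    | succ n ih =>
      intro x
      rw [pow_succ', Module.End.mul_apply, ih, hτ, pow_succ']
      rfl
  have hτq : τ ^ (q ^ e) = τ := by
    ext x
    rw [hτpow, hτ, hσq]
  have hnt : ∃ a : A, a ≠ 1 := by
    by_contra hcon
    push Not at hcon
    apply hne
    ext x
    rw [hcon (σ x), hcon x]
    rfl
  obtain ⟨a, ha⟩ := hnt
  refine card_le_of_simple τ hepos hτq ?_ (Additive.ofMul a) (by simpa using ha)
  intro W hW
  let B : Subgroup A :=
    { carrier := {a | Additive.ofMul a ∈ W}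
      mul_mem' := fun {x y} hx hy => W.add_mem hx hy
      one_mem' := W.zero_mem
      inv_mem' := fun {x} hx => W.neg_mem hx }
  rcases hs B (fun b hb => hW _ hb) with h1 | h1
  · left
    rw [Submodule.eq_bot_iff]
    intro x hx
    have : Additive.toMul x ∈ B := hx
    rw [h1] at this
    have h2 : Additive.toMul x = 1 := Subgroup.mem_bot.1 this
    exact h2
  · right
    rw [Submodule.eq_top_iff']
    intro x
    have : Additive.toMul x ∈ B := by rw [h1]; trivial
    exact this

/-- The dimension lemma. -/
theorem card_eq_of_irred (h : ∀ a : A, a ^ q = 1) (σ : MulAut A) (hσ : σ ^ p = 1) (hne : σ ≠ 1)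
    (hs : ∀ B : Subgroup A, (∀ b ∈ B, σ b ∈ B) → B = ⊥ ∨ B = ⊤) (hpq : q ≠ p) :
    Nat.card A = q ^ orderOf (q : ZMod p) := by
  classical
  -- fixed points
  have hfix : ∀ a : A, σ a = a → a = 1 := by
    intro a ha
    let F : Subgroup A :=
      { carrier := {a | σ a = a}
        mul_mem' := by
          intro x y hx hy
          change σ x = x at hx
          change σ y = y at hy
          change σ (x * y) = x * y
          rw [map_mul, hx, hy]
        one_mem' := by simp
        inv_mem' := by
          intro x hx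
          change σ x = x at hx
          change σ x⁻¹ = x⁻¹
          rw [map_inv, hx] }
    rcases hs F (fun b hb => by
      change σ (σ b) = σ b
      have hb' : σ b = b := hb
      rw [hb', hb']) with h1 | h1
    · have : a ∈ F := ha
      rw [h1] at this
      exact (Subgroup.mem_bot).1 this
    · exfalso
      apply hne
      ext x
      have : x ∈ F := by rw [h1]; trivial
      exact this
  -- `A` is a `q`-group
  have hpg : IsPGroup q A := fun a => ⟨1, by simpa using h a⟩
  obtain ⟨d, hd⟩ := IsPGroup.iff_card.1 hpg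
  -- congruence modulo `p`
  haveI := Fintype.ofFinite A
  let f : Function.End A := (σ : A → A)
  have hfpow : ∀ (n : ℕ) (x : A), (f ^ n) x = (σ ^ n) x := by
    intro n
    induction n with
    | zero => intro x; rfl
    | succ n ih =>
      intro x
      rw [pow_succ', pow_succ', MulAut.mul_apply, ← ih]
      rfl
  have hpow : f ^ (p ^ 1) = 1 := by
    funext x
    have h1 : (σ ^ p) x = x := by rw [hσ]; rfl
    rw [pow_one, hfpow, h1]
    rfl
  have hmod := Equiv.Perm.card_fixedPoints_modEq (p := p) (f := f) (n := 1) hpow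
  have hfixcard : Fintype.card (Function.fixedPoints f) = 1 := by
    rw [Fintype.card_eq_one_iff]
    refine ⟨⟨1, by simp [Function.mem_fixedPoints, Function.IsFixedPt, f]⟩, ?_⟩
    rintro ⟨a, ha⟩
    have : a = 1 := hfix a ha
    subst this
    rfl
  rw [hfixcard] at hmod
  have hdne : d ≠ 0 := by
    rintro rfl
    apply hne
    ext x
    have : Nat.card A = 1 := by simpa using hd
    have hsub : Subsingleton A := (Nat.card_eq_one_iff_unique.1 this).1
    rw [Subsingleton.elim (σ x) x]
    rfl
  have hunit : (q : ZMod p) ^ d = 1 := by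
    have h1 : ((Fintype.card A : ℕ) : ZMod p) = ((1 : ℕ) : ZMod p) :=
      (ZMod.natCast_eq_natCast_iff _ _ _).2 hmod
    rw [Nat.card_eq_fintype_card] at hd
    rw [hd] at h1
    simpa using h1
  set e := orderOf (q : ZMod p) with he
  have hedvd : e ∣ d := orderOf_dvd_of_pow_eq_one hunit
  have hepos : e ≠ 0 := by
    intro h0
    have := Nat.eq_zero_of_zero_dvd (h0 ▸ hedvd)
    exact hdne this
  -- upper bound
  have hsmul : ∀ x : Additive A, q • x = 0 := by
    intro x
    exact h (Additive.toMul x)
  have hσq : σ ^ (q ^ e) = σ := by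
    have hmodp : (q ^ e) % p = 1 % p := by
      have h1 : ((q ^ e : ℕ) : ZMod p) = ((1 : ℕ) : ZMod p) := by
        push_cast
        exact pow_orderOf_eq_one _
      exact (ZMod.natCast_eq_natCast_iff' _ _ _).1 h1
    have h2 : σ ^ (q ^ e) = σ ^ ((q ^ e) % p) := by
      conv_lhs => rw [← Nat.div_add_mod (q ^ e) p, pow_add, pow_mul, hσ, one_pow, one_mul]
    rw [h2, hmodp, Nat.mod_eq_of_lt hp.out.one_lt, pow_one]
  have hle : Nat.card (Additive A) ≤ q ^ e := by
    letI : Module (ZMod q) (Additive A) := AddCommGroup.zmodModule hsmul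
    exact card_le_aux σ hne hs hepos hσq
  have hcardA : Nat.card (Additive A) = Nat.card A := rfl
  rw [hcardA, hd] at hle
  have hdle : d ≤ e := (Nat.pow_le_pow_iff_right hq.out.one_lt).1 hle
  have hde : d = e := le_antisymm hdle (Nat.le_of_dvd (Nat.pos_of_ne_zero hdne) hedvd)
  rw [hd, hde]

end Group

end Cfsg.Agent.Lib.FG3.PrimeOrderIrred
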