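import Mathlib
import Cfsg.Prelude.Def_LocalStructure
import Cfsg.Prelude.Def_Transfer
import Cfsg.Agent.Lib.FG3.PrimeOrderIrred

/-! Minimal non-`p`-closed groups: shared lemmas. -/

set_option autoImplicit false

namespace Cfsg.Agent.Lib.FG3.MinNonClosed

open Cfsg.Agent.Lib.FG3.PrimeOrderIrred

section Basic

variable {G : Type*} [Group G] [Finite G] {p : ℕ} [hp : Fact p.Prime]

theorem pclosed_of_isPGroup (h : IsPGroup p G) : Cfsg.IsPClosed p G := by
  intro P
  have : (P : Subgroup G) = ⊤ := (P.3 (h.to_subgroup ⊤) le_top).symm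
  rw [this]
  infer_instance

theorem pclosed_of_coprime (h : ¬ p ∣ Nat.card G) : Cfsg.IsPClosed p G := by
  intro P
  have h1 : Nat.card (P : Subgroup G) = 1 := by
    rcases P.2.card_eq_or_dvd with h2 | h2
    · exact h2
    · exact absurd (h2.trans (Subgroup.card_subgroup_dvd_card _)) h
  have : (P : Subgroup G) = ⊥ := Subgroup.card_eq_one.1 h1
  rw [this]
  infer_instance

theorem pclosed_of_normal_sylow (M : Subgroup G) (hn : M.Normal) (hM : IsPGroup p M)
    (hi : ¬ p ∣ M.index) : Cfsg.IsPClosed p G := by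
  intro P
  let S : Sylow p G := hM.toSylow hi
  have hS : (S : Subgroup G).Normal := by
    have : (S : Subgroup G) = M := hM.toSylow_coe hi
    rw [this]
    exact hn
  haveI : (S : Subgroup G).Normal := hS
  obtain ⟨g, hg⟩ := MulAction.exists_smul_eq G S P
  rw [Sylow.smul_eq_of_normal] at hg
  rw [← hg]
  exact hS

/-- A normal subgroup of index prime to `p` that is `p`-closed makes the group `p`-closed. -/
theorem pclosed_of_normal_of_coprime_index (M : Subgroup G) [hn : M.Normal] (hi : ¬ p ∣ M.index)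
    (hM : Cfsg.IsPClosed p M) : Cfsg.IsPClosed p G := by
  let S : Sylow p M := default
  have hS : (S : Subgroup M).Normal := hM S
  haveI hc := Sylow.characteristic_of_normal S hS
  haveI hT : ((S : Subgroup M).map M.subtype).Normal := inferInstance
  refine pclosed_of_normal_sylow _ hT (S.2.map M.subtype) ?_
  rw [Subgroup.index_map_subtype]
  intro h
  rcases (Fact.out : p.Prime).dvd_mul.1 h with h | h
  · exact S.not_dvd_index h
  · exact hi h

/-- A normal `p`-subgroup with `p`-closed quotient makes the group `p`-closed. -/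
theorem pclosed_of_quotient (T : Subgroup G) [T.Normal] (hT : IsPGroup p T)
    (h : Cfsg.IsPClosed p (G ⧸ T)) : Cfsg.IsPClosed p G := by
  let R : Sylow p (G ⧸ T) := default
  have hR : (R : Subgroup (G ⧸ T)).Normal := h R
  let M : Subgroup G := (R : Subgroup (G ⧸ T)).comap (QuotientGroup.mk' T)
  have hMn : M.Normal := hR.comap _
  have hker : IsPGroup p (QuotientGroup.mk' T).ker := by
    rw [QuotientGroup.ker_mk']
    exact hT
  have hMp : IsPGroup p M := R.2.comap_of_ker_isPGroup _ hker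
  refine pclosed_of_normal_sylow M hMn hMp ?_
  have : M.index = (R : Subgroup (G ⧸ T)).index :=
    Subgroup.index_comap_of_surjective _ (QuotientGroup.mk'_surjective T)
  rw [this]
  exact R.not_dvd_index

/-- Coprime orders. -/
theorem eq_one_of_pow_pow {q : ℕ} (hq : q.Prime) (hpq : q ≠ p) {y : G} {a b : ℕ}
    (h1 : y ^ (p ^ a) = 1) (h2 : y ^ (q ^ b) = 1) : y = 1 := by
  have hcop : Nat.Coprime (p ^ a) (q ^ b) :=
    Nat.Coprime.pow _ _ ((Nat.coprime_primes hp.out hq).2 hpq.symm)
  have h3 := Nat.dvd_gcd (orderOf_dvd_of_pow_eq_one h1) (orderOf_dvd_of_pow_eq_one h2)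
  rw [hcop] at h3
  exact orderOf_eq_one_iff.1 (Nat.dvd_one.1 h3)

/-- Every element factors through a non-member of a prime index normal subgroup. -/
theorem exists_pow_mul (A : Subgroup G) [A.Normal] (hidx : A.index = p) {h : G} (hh : h ∉ A)
    (g : G) : ∃ n : ℕ, ∃ a ∈ A, g = h ^ n * a := by
  have hcard : Nat.card (G ⧸ A) = p := by rw [← Subgroup.index_eq_card, hidx]
  have hne : (QuotientGroup.mk h : G ⧸ A) ≠ 1 := by
    rw [Ne, QuotientGroup.eq_one_iff]
    exact hh
  have hm := mem_zpowers_of_prime_card hcard hne (g' := (QuotientGroup.mk g : G ⧸ A))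
  rw [← mem_powers_iff_mem_zpowers] at hm
  obtain ⟨n, hn⟩ := hm
  have hn' : (QuotientGroup.mk h : G ⧸ A) ^ n = QuotientGroup.mk g := hn
  refine ⟨n, (h ^ n)⁻¹ * g, ?_, by group⟩
  have : (QuotientGroup.mk ((h ^ n)⁻¹ * g) : G ⧸ A) = 1 := by
    rw [QuotientGroup.mk_mul, QuotientGroup.mk_inv, QuotientGroup.mk_pow, hn']
    group
  exact (QuotientGroup.eq_one_iff _).1 this

/-- A subgroup of `A` normalized by `h ∉ A` is normal if `A` is commutative. -/
theorem normal_of_stable (A : Subgroup G) [A.Normal] (hidx : A.index = p)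
    (hA : ∀ a ∈ A, ∀ b ∈ A, a * b = b * a) {h : G} (hh : h ∉ A) (B : Subgroup G) (hBA : B ≤ A)
    (hB : ∀ b ∈ B, h * b * h⁻¹ ∈ B) : B.Normal := by
  refine ⟨fun b hb g => ?_⟩
  obtain ⟨n, a, ha, rfl⟩ := exists_pow_mul A hidx hh g
  have h1 : ∀ n : ℕ, ∀ b ∈ B, h ^ n * b * (h ^ n)⁻¹ ∈ B := by
    intro n
    induction n with
    | zero => intro b hb; simpa using hb
    | succ n ih =>
      intro b hb
      have := ih _ (hB b hb)
      have e : h ^ (n + 1) * b * (h ^ (n + 1))⁻¹ = h ^ n * (h * b * h⁻¹) * (h ^ n)⁻¹ := by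
        rw [pow_succ]; group
      rw [e]
      exact this
  have e : h ^ n * a * b * (h ^ n * a)⁻¹ = h ^ n * b * (h ^ n)⁻¹ := by
    have hab := hA a ha b (hBA hb)
    rw [mul_inv_rev]
    calc h ^ n * a * b * (a⁻¹ * (h ^ n)⁻¹) = h ^ n * (a * b) * a⁻¹ * (h ^ n)⁻¹ := by group
      _ = h ^ n * (b * a) * a⁻¹ * (h ^ n)⁻¹ := by rw [hab]
      _ = h ^ n * b * (h ^ n)⁻¹ := by group
  rw [e]
  exact h1 n b hb

/-- If `h ∉ A` commutes with the commutative subgroup `A` of prime index then `G` is commutative. -/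
theorem comm_of_centralizes (A : Subgroup G) [A.Normal] (hidx : A.index = p)
    (hA : ∀ a ∈ A, ∀ b ∈ A, a * b = b * a) {h : G} (hh : h ∉ A)
    (hc : ∀ a ∈ A, h * a = a * h) (g g' : G) : g * g' = g' * g := by
  obtain ⟨n, a, ha, rfl⟩ := exists_pow_mul A hidx hh g
  obtain ⟨m, b, hb, rfl⟩ := exists_pow_mul A hidx hh g'
  have hc' : ∀ n : ℕ, ∀ a ∈ A, h ^ n * a = a * h ^ n := by
    intro n a ha
    exact ((Commute.pow_left (show Commute h a from hc a ha) n)).eq
  have e1 := hc' m a ha
  have e2 := hc' n b hb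
  have e3 := hA a ha b hb
  calc h ^ n * a * (h ^ m * b) = h ^ n * (a * h ^ m) * b := by group
    _ = h ^ n * (h ^ m * a) * b := by rw [e1]
    _ = h ^ (n + m) * (a * b) := by rw [pow_add]; group
    _ = h ^ (m + n) * (b * a) := by rw [e3, add_comm]
    _ = h ^ m * (h ^ n * b) * a := by rw [pow_add]; group
    _ = h ^ m * (b * h ^ n) * a := by rw [e2]
    _ = h ^ m * b * (h ^ n * a) := by group

end Basic

section Dim

variable {G : Type*} [Group G] [Finite G] {p q : ℕ} [hp : Fact p.Prime]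

/-- The dimension statement. -/
theorem card_of_index (hq : q.Prime) (hpq : q ≠ p) (hna : ¬ IsMulCommutative G)
    (A : Subgroup G) [A.Normal] (hA : Cfsg.IsElementaryAbelian q A) (hidx : A.index = p)
    (hmin : ∀ B : Subgroup G, B.Normal → B ≤ A → B = ⊥ ∨ B = A) :
    Nat.card A = q ^ orderOf (q : ZMod p) := by
  haveI : Fact q.Prime := ⟨hq⟩
  have hAc : ∀ a ∈ A, ∀ b ∈ A, a * b = b * a := by
    intro a ha b hb
    have := hA.1.is_comm.comm ⟨a, ha⟩ ⟨b, hb⟩
    exact congrArg Subtype.val this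
  have hApow : ∀ a ∈ A, a ^ q = 1 := hA.2
  -- an element of order `p`
  have hdvd : p ∣ Nat.card G := by
    rw [← A.card_mul_index, hidx]
    exact Dvd.intro_left _ rfl
  obtain ⟨x, hx⟩ := exists_prime_orderOf_dvd_card' p hdvd
  have hxp : x ^ p = 1 := by rw [← hx]; exact pow_orderOf_eq_one x
  have hxA : x ∉ A := by
    intro hxA
    have h1 : x = 1 := eq_one_of_pow_pow hq hpq (a := 1) (b := 1) (by simpa using hxp)
      (by simpa using hApow x hxA)
    rw [h1, orderOf_one] at hx
    exact hp.out.ne_one hx.symm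
  letI : CommGroup A :=
    { (inferInstance : Group A) with
      mul_comm := fun a b => Subtype.ext (hAc a a.2 b b.2) }
  let σ : MulAut A := MulAut.conjNormal x
  have hσapp : ∀ a : A, ((σ a : A) : G) = x * a * x⁻¹ := fun a => MulAut.conjNormal_apply x a
  refine card_eq_of_irred (p := p) (fun a => Subtype.ext (by simpa using hApow a a.2)) σ ?_ ?_ ?_ hpq
  · change (MulAut.conjNormal x) ^ p = 1
    rw [← map_pow, hxp, map_one]
  · intro hσ
    apply hna
    refine ⟨⟨comm_of_centralizes A hidx hAc hxA ?_⟩⟩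
    intro a ha
    have h1 := hσapp ⟨a, ha⟩
    rw [hσ] at h1
    have h2 : a = x * a * x⁻¹ := h1
    rw [eq_mul_inv_iff_mul_eq] at h2
    exact h2.symm
  · intro B hB
    let B' : Subgroup G := B.map A.subtype
    have hB'A : B' ≤ A := by
      rintro _ ⟨b, _, rfl⟩
      exact b.2
    have hB'n : B'.Normal := by
      refine normal_of_stable A hidx hAc hxA B' hB'A ?_
      rintro _ ⟨b, hb, rfl⟩
      refine ⟨σ b, hB b hb, ?_⟩
      exact hσapp b
    rcases hmin B' hB'n hB'A with h | h
    · left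
      rw [eq_bot_iff]
      intro b hb
      have : (b : G) ∈ B' := ⟨b, hb, rfl⟩
      rw [h] at this
      exact Subgroup.mem_bot.2 (Subtype.ext (Subgroup.mem_bot.1 this))
    · right
      rw [eq_top_iff]
      intro a _
      have : (a : G) ∈ B' := by rw [h]; exact a.2
      obtain ⟨b, hb, hba⟩ := this
      have : b = a := Subtype.ext hba
      rwa [← this]

end Dim

end Cfsg.Agent.Lib.FG3.MinNonClosed
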