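import Mathlib
import Cfsg.Prelude.Def_LocalStructure
import Cfsg.Prelude.Def_Transfer
import Cfsg.Agent.Lib.FG3.MinNonClosed

/-! Minimal non-`p`-closed and non-`p`-exponent-closed groups: common tail of the structure theorem. -/

set_option autoImplicit false

namespace Cfsg.Agent.Lib.FG3.MinNonClosedTail

open Cfsg.Agent.Lib.FG3.MinNonClosed

/-- In a proper subgroup, the commutator of an element of order dividing `p` with anything has
`p`-power order. -/
def StarProp (p : ℕ) (G : Type*) [Group G] : Prop :=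
  ∀ H : Subgroup G, H ≠ ⊤ → ∀ x ∈ H, x ^ p = 1 → ∀ u ∈ H, ∃ k : ℕ, (x * u * x⁻¹ * u⁻¹) ^ p ^ k = 1

section Core

variable {G : Type*} [Group G] [Finite G] {p : ℕ} [hp : Fact p.Prime]

/-- The subgroup `Q ⟨x⟩`, for `x` normalizing `Q`. -/
def mulZpowers (Q : Subgroup G) (x : G) (hx : x ∈ Subgroup.normalizer (Q : Set G)) : Subgroup G where
  carrier := {g | ∃ a ∈ Q, ∃ i : ℤ, g = a * x ^ i}
  mul_mem' := by
    rintro _ _ ⟨a, ha, i, rfl⟩ ⟨b, hb, j, rfl⟩
    have hxi : x ^ i ∈ Subgroup.normalizer (Q : Set G) := Subgroup.zpow_mem _ hx i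
    refine ⟨a * (x ^ i * b * (x ^ i)⁻¹), Q.mul_mem ha ((Subgroup.mem_normalizer_iff.1 hxi b).1 hb),
      i + j, ?_⟩
    rw [zpow_add]
    group
  one_mem' := ⟨1, Q.one_mem, 0, by simp⟩
  inv_mem' := by
    rintro _ ⟨a, ha, i, rfl⟩
    have hxi : x ^ (-i) ∈ Subgroup.normalizer (Q : Set G) := Subgroup.zpow_mem _ hx (-i)
    refine ⟨x ^ (-i) * a⁻¹ * (x ^ (-i))⁻¹, (Subgroup.mem_normalizer_iff.1 hxi a⁻¹).1 (Q.inv_mem ha),
      -i, ?_⟩
    group

/-- The core lemma. -/
theorem exists_isPGroup (N : Subgroup G) [hNn : N.Normal] (hN : N ≠ ⊥) (hpN : ¬ p ∣ Nat.card N)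
    (hidx : N.index = p) (hstar : StarProp p G) (y : G) (hy : y ^ p = 1)
    (hyN : ∃ n ∈ N, y * n ≠ n * y) : ∃ q : ℕ, q.Prime ∧ q ≠ p ∧ IsPGroup q N := by
  classical
  have hpp : p.Prime := hp.out
  have hy1 : y ≠ 1 := by
    rintro rfl
    obtain ⟨n, _, hn⟩ := hyN
    simp at hn
  have hyord : orderOf y = p := orderOf_eq_prime hy hy1
  have hcardG : Nat.card G = Nat.card N * p := by rw [← N.card_mul_index, hidx]
  by_contra hcon
  push Not at hcon
  let C₀ : Subgroup N := (Subgroup.centralizer {y}).subgroupOf N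
  have hclaim : ∀ r k : ℕ, r.Prime → r ^ k ∣ Nat.card N → r ^ k ∣ Nat.card C₀ := by
    intro r k hr hrk
    rcases Nat.eq_zero_or_pos k with rfl | hkpos
    · simp
    haveI : Fact r.Prime := ⟨hr⟩
    have hrN : r ∣ Nat.card N := (dvd_pow_self r hkpos.ne').trans hrk
    have hrp : r ≠ p := by
      rintro rfl
      exact hpN hrN
    let Q : Sylow r N := default
    let Q' : Subgroup G := (Q : Subgroup N).map N.subtype
    have hF : Subgroup.normalizer (Q' : Set G) ⊔ N = ⊤ := Sylow.normalizer_sup_eq_top Q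
    have hQ'N : Q' ≤ N := by
      rintro _ ⟨u, _, rfl⟩
      exact u.2
    have hQ'r : ∀ u ∈ Q', ∃ k : ℕ, u ^ r ^ k = 1 := by
      rintro _ ⟨u, hu, rfl⟩
      obtain ⟨k, hk⟩ := Q.2 ⟨u, hu⟩
      refine ⟨k, ?_⟩
      have := congrArg (fun t : Q => ((t : N) : G)) hk
      simpa using this
    -- an element of order `p` normalizing `Q'`
    have hNz : ¬ Subgroup.normalizer (Q' : Set G) ≤ N := by
      intro hle
      rw [sup_eq_right.2 hle] at hF
      rw [hF, Subgroup.index_top] at hidx
      exact hpp.ne_one hidx.symm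
    obtain ⟨g, hgNz, hgN⟩ := SetLike.not_le_iff_exists.1 hNz
    have hcardQ : Nat.card (G ⧸ N) = p := by rw [← Subgroup.index_eq_card, hidx]
    have hpNz : p ∣ Nat.card (Subgroup.normalizer (Q' : Set G)) := by
      have h1 : (QuotientGroup.mk g : G ⧸ N) ≠ 1 := by
        rw [Ne, QuotientGroup.eq_one_iff]
        exact hgN
      have h2 : orderOf (QuotientGroup.mk g : G ⧸ N) = p := by
        have h3 := orderOf_dvd_natCard (QuotientGroup.mk g : G ⧸ N)
        rw [hcardQ] at h3
        rcases (Nat.dvd_prime hpp).1 h3 with h4 | h4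
        · exact absurd (orderOf_eq_one_iff.1 h4) h1
        · exact h4
      have h5 : orderOf (QuotientGroup.mk g : G ⧸ N) ∣ orderOf g :=
        orderOf_map_dvd (QuotientGroup.mk' N) g
      rw [h2] at h5
      exact h5.trans (Subgroup.orderOf_dvd_natCard _ hgNz)
    obtain ⟨x₀, hx₀⟩ := exists_prime_orderOf_dvd_card' p hpNz
    let x : G := x₀
    have hxNz : x ∈ Subgroup.normalizer (Q' : Set G) := x₀.2
    have hxord : orderOf x = p := by
      rw [← hx₀]
      exact Subgroup.orderOf_coe x₀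
    have hxp : x ^ p = 1 := by rw [← hxord]; exact pow_orderOf_eq_one x
    have hxN : ∀ i : ℤ, x ^ i ∈ N → x ^ i = 1 := by
      intro i hi
      have h1 : orderOf (x ^ i) ∣ Nat.card N := Subgroup.orderOf_dvd_natCard _ hi
      have h2 : (x ^ i) ^ p = 1 := by
        rw [← zpow_natCast, ← zpow_mul, mul_comm, zpow_mul, zpow_natCast, hxp, one_zpow]
      have h3 : orderOf (x ^ i) ∣ p := orderOf_dvd_of_pow_eq_one h2
      rcases (Nat.dvd_prime hpp).1 h3 with h4 | h4
      · exact orderOf_eq_one_iff.1 h4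
      · rw [h4] at h1
        exact absurd h1 hpN
    let H : Subgroup G := mulZpowers Q' x hxNz
    have hxH : x ∈ H := ⟨1, Q'.one_mem, 1, by simp⟩
    have hQ'H : Q' ≤ H := fun a ha => ⟨a, ha, 0, by simp⟩
    by_cases hH : H = ⊤
    · -- then `N` is an `r`-group
      exfalso
      refine hcon r hr hrp ?_
      intro n
      have hnH : (n : G) ∈ H := by rw [hH]; trivial
      obtain ⟨a, ha, i, hai⟩ := hnH
      have h1 : x ^ i ∈ N := by
        have : x ^ i = a⁻¹ * n := by rw [hai]; group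
        rw [this]
        exact N.mul_mem (N.inv_mem (hQ'N ha)) n.2
      rw [hxN i h1, mul_one] at hai
      obtain ⟨k, hk⟩ := hQ'r a ha
      refine ⟨k, Subtype.ext ?_⟩
      rw [Subgroup.coe_pow, hai]
      simpa using hk
    · -- `x` centralizes `Q'`
      have hxQ : ∀ u ∈ Q', x * u = u * x := by
        intro u hu
        obtain ⟨k, hk⟩ := hstar H hH x hxH hxp u (hQ'H hu)
        have hc : x * u * x⁻¹ * u⁻¹ ∈ Q' :=
          Q'.mul_mem ((Subgroup.mem_normalizer_iff.1 hxNz u).1 hu) (Q'.inv_mem hu)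
        obtain ⟨j, hj⟩ := hQ'r _ hc
        have h1 := eq_one_of_pow_pow hr hrp hk hj
        rw [mul_inv_eq_one, mul_inv_eq_iff_eq_mul] at h1
        exact h1
      -- Sylow conjugacy
      have hSx : IsPGroup p (Subgroup.zpowers x) := by
        refine IsPGroup.of_card (n := 1) ?_
        rw [Nat.card_zpowers, hxord, pow_one]
      have hSy : IsPGroup p (Subgroup.zpowers y) := by
        refine IsPGroup.of_card (n := 1) ?_
        rw [Nat.card_zpowers, hyord, pow_one]
      have hidx' : ∀ z : G, orderOf z = p → (Subgroup.zpowers z).index = Nat.card N := by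
        intro z hz
        have h1 := (Subgroup.zpowers z).card_mul_index
        rw [Nat.card_zpowers, hz, hcardG] at h1
        exact Nat.eq_of_mul_eq_mul_left hpp.pos (h1.trans (mul_comm _ _))
      let Sx : Sylow p G := hSx.toSylow (by rw [hidx' x hxord]; exact hpN)
      let Sy : Sylow p G := hSy.toSylow (by rw [hidx' y hyord]; exact hpN)
      obtain ⟨g, hg⟩ := MulAction.exists_smul_eq G Sx Sy
      have hymem : y ∈ (Sy : Subgroup G) := by
        have : (Sy : Subgroup G) = Subgroup.zpowers y := IsPGroup.toSylow_coe _ _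
        rw [this]
        exact Subgroup.mem_zpowers y
      rw [← hg, Sylow.coe_subgroup_smul, Subgroup.mem_pointwise_smul_iff_inv_smul_mem] at hymem
      have hinv : (MulAut.conj g)⁻¹ • y ∈ Subgroup.zpowers x := by
        have : (Sx : Subgroup G) = Subgroup.zpowers x := IsPGroup.toSylow_coe _ _
        rw [← this]
        exact hymem
      obtain ⟨i, hi⟩ := Subgroup.mem_zpowers_iff.1 hinv
      have hyeq : y = g * x ^ i * g⁻¹ := by
        have h1 : g⁻¹ * y * g = x ^ i := by
          rw [hi]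
          simp [MulAut.smul_def]
        rw [← h1]
        group
      -- conjugating `Q`
      let Q₂ : Subgroup N := (Q : Subgroup N).map (MulAut.conjNormal g : N ≃* N).toMonoidHom
      have hQ₂ : Q₂ ≤ C₀ := by
        rintro _ ⟨u, hu, rfl⟩
        rw [Subgroup.mem_subgroupOf, Subgroup.mem_centralizer_singleton_iff]
        have hu' : (u : G) ∈ Q' := ⟨u, hu, rfl⟩
        have hc : x ^ i * (u : G) = u * x ^ i :=
          ((Commute.zpow_left (show Commute x (u : G) from hxQ _ hu') i)).eq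
        change g * (u : G) * g⁻¹ * y = y * (g * u * g⁻¹)
        rw [hyeq]
        calc g * (u : G) * g⁻¹ * (g * x ^ i * g⁻¹) = g * (u * x ^ i) * g⁻¹ := by group
          _ = g * (x ^ i * u) * g⁻¹ := by rw [hc]
          _ = g * x ^ i * g⁻¹ * (g * u * g⁻¹) := by group
      have hcard2 : Nat.card Q₂ = Nat.card (Q : Subgroup N) :=
        Subgroup.card_map_of_injective (MulAut.conjNormal g : N ≃* N).injective
      have h1 : r ^ k ∣ Nat.card (Q : Subgroup N) := Sylow.pow_dvd_card_of_pow_dvd_card Q hrk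
      rw [← hcard2] at h1
      exact h1.trans (Subgroup.card_dvd_of_le hQ₂)
  have hdvd : Nat.card N ∣ Nat.card C₀ := by
    rw [Nat.dvd_iff_prime_pow_dvd_dvd]
    intro r k hr hrk
    exact hclaim r k hr hrk
  have htop : C₀ = ⊤ := by
    apply Subgroup.eq_top_of_card_eq
    exact Nat.dvd_antisymm (Subgroup.card_subgroup_dvd_card _) hdvd
  obtain ⟨n, hn, hne⟩ := hyN
  have hmem : (⟨n, hn⟩ : N) ∈ C₀ := by rw [htop]; trivial
  rw [Subgroup.mem_subgroupOf, Subgroup.mem_centralizer_singleton_iff] at hmem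
  exact hne hmem.symm

/-- Minimal normal `q`-subgroups are elementary abelian. -/
theorem elem_of_minimal {q : ℕ} (hq : q.Prime) (A : Subgroup G) [hAn : A.Normal] (hA : IsPGroup q A)
    (hbot : A ≠ ⊥) (hmin : ∀ B : Subgroup G, B.Normal → B ≤ A → B = ⊥ ∨ B = A) :
    Cfsg.IsElementaryAbelian q A := by
  haveI : Fact q.Prime := ⟨hq⟩
  haveI hnt : Nontrivial A := (Subgroup.nontrivial_iff_ne_bot A).2 hbot
  -- commutativity
  have hcomm : ∀ a ∈ A, ∀ b ∈ A, a * b = b * a := by
    have hZ : ((Subgroup.center A).map A.subtype).Normal := inferInstance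
    rcases hmin _ hZ (by rintro _ ⟨u, _, rfl⟩; exact u.2) with h | h
    · exfalso
      have h1 : Subgroup.center A = ⊥ := by
        rwa [Subgroup.map_eq_bot_iff_of_injective _ A.subtype_injective] at h
      have h2 := hA.center_nontrivial
      rw [h1] at h2
      exact not_nontrivial _ h2
    · intro a ha b hb
      have ha' : a ∈ (Subgroup.center A).map A.subtype := by rw [h]; exact ha
      obtain ⟨u, hu, rfl⟩ := ha'
      have := (Subgroup.mem_center_iff.1 hu) ⟨b, hb⟩
      exact (congrArg Subtype.val this).symm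
  -- the subgroup of elements of order dividing `q`
  let Ω : Subgroup G :=
    { carrier := {g | g ∈ A ∧ g ^ q = 1}
      mul_mem' := by
        rintro a b ⟨ha, ha'⟩ ⟨hb, hb'⟩
        refine ⟨A.mul_mem ha hb, ?_⟩
        rw [(show Commute a b from hcomm a ha b hb).mul_pow, ha', hb', one_mul]
      one_mem' := ⟨A.one_mem, one_pow _⟩
      inv_mem' := by
        rintro a ⟨ha, ha'⟩
        exact ⟨A.inv_mem ha, by rw [inv_pow, ha', inv_one]⟩ }
  have hΩn : Ω.Normal := by
    refine ⟨?_⟩
    rintro a ⟨ha, ha'⟩ g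
    refine ⟨hAn.conj_mem a ha g, ?_⟩
    rw [conj_pow, ha']
    simp
  have hΩA : Ω ≤ A := fun a ha => ha.1
  have hqdvd : q ∣ Nat.card A := by
    obtain ⟨n, hn, hn'⟩ := (IsPGroup.nontrivial_iff_card hA).1 hnt
    rw [hn']
    exact dvd_pow_self q hn.ne'
  obtain ⟨a₀, ha₀⟩ := exists_prime_orderOf_dvd_card' q hqdvd
  have hΩ : Ω = A := by
    rcases hmin Ω hΩn hΩA with h | h
    · exfalso
      have h1 : ((a₀ : A) : G) ^ q = 1 := by
        have := pow_orderOf_eq_one a₀
        rw [ha₀] at this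
        simpa using congrArg Subtype.val this
      have h2 : ((a₀ : A) : G) ∈ Ω := ⟨a₀.2, h1⟩
      rw [h] at h2
      have h3 : a₀ = 1 := Subtype.ext (Subgroup.mem_bot.1 h2)
      rw [h3, orderOf_one] at ha₀
      exact hq.ne_one ha₀.symm
    · exact h
  refine ⟨⟨⟨fun a b => Subtype.ext (hcomm a a.2 b b.2)⟩⟩, ?_⟩
  intro a ha
  rw [← hΩ] at ha
  exact ha.2

/-- The common tail of the structure theorems. -/
theorem tail (hstar : StarProp p G)
    (hprop : ∀ (N : Subgroup G) [N.Normal], N ≠ ⊥ → N ≠ ⊤ → ¬ p ∣ Nat.card N ∧ IsPGroup p (G ⧸ N))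
    (hns : ¬ IsSimpleGroup G) (hnp : ¬ IsPGroup p G) :
    ∃ q : ℕ, q.Prime ∧ q ≠ p ∧ Nat.card G = p * q ^ orderOf (q : ZMod p) ∧
      ∃ A : Subgroup G, A.Normal ∧ Nat.card ↥A = q ^ orderOf (q : ZMod p) ∧
        Cfsg.IsElementaryAbelian q A ∧ ∀ B : Subgroup G, B.Normal → B ≤ A → B = ⊥ ∨ B = A := by
  classical
  have hpp : p.Prime := hp.out
  have hnt : Nontrivial G := by
    by_contra h
    rw [not_nontrivial_iff_subsingleton] at h
    exact hnp (IsPGroup.of_subsingleton p G)
  -- a proper nontrivial normal subgroup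
  have hex : ∃ N : Subgroup G, N.Normal ∧ N ≠ ⊥ ∧ N ≠ ⊤ := by
    by_contra hcon
    push Not at hcon
    apply hns
    refine { eq_bot_or_eq_top_of_normal := fun H hH => ?_ }
    by_cases h : H = ⊥
    · exact Or.inl h
    · exact Or.inr (hcon H hH h)
  -- a minimal one
  let S : Set (Subgroup G) := {N | N.Normal ∧ N ≠ ⊥ ∧ N ≠ ⊤}
  obtain ⟨A, hAm⟩ := (Set.toFinite S).exists_minimal hex
  obtain ⟨hAn, hAbot, hAtop⟩ := hAm.1
  haveI := hAn
  have hmin : ∀ B : Subgroup G, B.Normal → B ≤ A → B = ⊥ ∨ B = A := by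
    intro B hBn hBA
    by_cases hB : B = ⊥
    · exact Or.inl hB
    · right
      have hBtop : B ≠ ⊤ := by
        rintro rfl
        exact hAtop (top_le_iff.1 hBA)
      exact le_antisymm hBA (hAm.2 ⟨hBn, hB, hBtop⟩ hBA)
  obtain ⟨hpA, hKp⟩ := hprop A hAbot hAtop
  -- the index
  have hidx : A.index = p := by
    have hKnt : Nontrivial (G ⧸ A) := by
      rw [QuotientGroup.nontrivial_iff]
      exact hAtop
    have hcnt := hKp.center_nontrivial
    obtain ⟨n, hn, hn'⟩ :=
      (IsPGroup.nontrivial_iff_card (hKp.to_subgroup (Subgroup.center (G ⧸ A)))).1 hcnt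
    have hdvd : p ∣ Nat.card (Subgroup.center (G ⧸ A)) := by
      rw [hn']
      exact dvd_pow_self p hn.ne'
    obtain ⟨z₀, hz₀⟩ := exists_prime_orderOf_dvd_card' p hdvd
    let z : G ⧸ A := z₀
    have hzc : z ∈ Subgroup.center (G ⧸ A) := z₀.2
    have hzord : orderOf z = p := by
      rw [← hz₀]
      exact Subgroup.orderOf_coe z₀
    have hZn : (Subgroup.zpowers z).Normal := by
      refine ⟨fun w hw g => ?_⟩
      obtain ⟨i, rfl⟩ := Subgroup.mem_zpowers_iff.1 hw
      have hc : g * z ^ i = z ^ i * g :=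
        ((Commute.zpow_right (show Commute g z from (Subgroup.mem_center_iff.1 hzc g)) i)).eq
      rw [hc, mul_inv_cancel_right]
      exact Subgroup.zpow_mem_zpowers z i
    let M : Subgroup G := (Subgroup.zpowers z).comap (QuotientGroup.mk' A)
    have hMn : M.Normal := hZn.comap _
    have hAM : A ≤ M := by
      intro a ha
      change (QuotientGroup.mk a : G ⧸ A) ∈ Subgroup.zpowers z
      rw [(QuotientGroup.eq_one_iff a).2 ha]
      exact Subgroup.one_mem _
    have hMbot : M ≠ ⊥ := by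
      intro h
      rw [h] at hAM
      exact hAbot (le_bot_iff.1 hAM)
    have hMtop : M = ⊤ := by
      by_contra hMtop
      obtain ⟨hM1, _⟩ := hprop M hMbot hMtop
      obtain ⟨g, hg⟩ := QuotientGroup.mk_surjective z
      have hgM : g ∈ M := by
        change (QuotientGroup.mk g : G ⧸ A) ∈ Subgroup.zpowers z
        rw [hg]
        exact Subgroup.mem_zpowers z
      apply hM1
      have h1 : orderOf (QuotientGroup.mk g : G ⧸ A) ∣ orderOf g :=
        orderOf_map_dvd (QuotientGroup.mk' A) g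
      rw [hg, hzord] at h1
      exact h1.trans (Subgroup.orderOf_dvd_natCard _ hgM)
    have hZtop : Subgroup.zpowers z = ⊤ := by
      rw [eq_top_iff]
      intro w _
      obtain ⟨g, rfl⟩ := QuotientGroup.mk_surjective w
      have : g ∈ M := by rw [hMtop]; trivial
      exact this
    rw [Subgroup.index_eq_card, ← Subgroup.card_top (G := G ⧸ A), ← hZtop, Nat.card_zpowers, hzord]
  -- an element of order `p`
  have hdvdG : p ∣ Nat.card G := by
    rw [← A.card_mul_index, hidx]
    exact Dvd.intro_left _ rfl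
  obtain ⟨x, hx⟩ := exists_prime_orderOf_dvd_card' p hdvdG
  have hxp : x ^ p = 1 := by rw [← hx]; exact pow_orderOf_eq_one x
  have hxA : x ∉ A := by
    intro h
    exact hpA (hx ▸ Subgroup.orderOf_dvd_natCard _ h)
  -- `x` does not centralize `A`
  have hxc : ∃ n ∈ A, x * n ≠ n * x := by
    by_contra hcon
    push Not at hcon
    have hZn : (Subgroup.zpowers x).Normal := by
      refine ⟨fun w hw g => ?_⟩
      obtain ⟨i, rfl⟩ := Subgroup.mem_zpowers_iff.1 hw
      obtain ⟨n, a, ha, rfl⟩ := exists_pow_mul A hidx hxA g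
      have h1 : x ^ i * a = a * x ^ i :=
        ((Commute.zpow_left (show Commute x a from hcon a ha) i)).eq
      have h2 : x ^ n * x ^ i = x ^ i * x ^ n :=
        ((Commute.pow_left (Commute.zpow_right (Commute.refl x) i) n)).eq
      have e : x ^ n * a * x ^ i * (x ^ n * a)⁻¹ = x ^ i := by
        calc x ^ n * a * x ^ i * (x ^ n * a)⁻¹ = x ^ n * (a * x ^ i) * a⁻¹ * (x ^ n)⁻¹ := by group
          _ = x ^ n * (x ^ i * a) * a⁻¹ * (x ^ n)⁻¹ := by rw [h1]
          _ = (x ^ n * x ^ i) * (x ^ n)⁻¹ := by group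
          _ = x ^ i := by rw [h2]; group
      rw [e]
      exact Subgroup.zpow_mem_zpowers x i
    have hZbot : Subgroup.zpowers x ≠ ⊥ := by
      intro h
      rw [Subgroup.zpowers_eq_bot] at h
      rw [h, orderOf_one] at hx
      exact hpp.ne_one hx.symm
    by_cases hZtop : Subgroup.zpowers x = ⊤
    · apply hnp
      refine IsPGroup.of_card (n := 1) ?_
      rw [← Subgroup.card_top (G := G), ← hZtop, Nat.card_zpowers, hx, pow_one]
    · obtain ⟨h1, _⟩ := hprop _ hZbot hZtop
      apply h1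
      rw [Nat.card_zpowers, hx]
  obtain ⟨q, hq, hqp, hpg⟩ := exists_isPGroup A hAbot hpA hidx hstar x hxp hxc
  have hel := elem_of_minimal hq A hpg hAbot hmin
  have hna : ¬ IsMulCommutative G := by
    intro h
    obtain ⟨n, hn, hne⟩ := hxc
    exact hne (h.is_comm.comm x n)
  have hcard := card_of_index hq hqp hna A hel hidx hmin
  refine ⟨q, hq, hqp, ?_, A, hAn, hcard, hel, hmin⟩
  rw [← A.card_mul_index, hcard, hidx, mul_comm]

end Core

end Cfsg.Agent.Lib.FG3.MinNonClosedTail
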